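import Groth.Agent.Lib.Slice.Spread
import Groth.Agent.Lib.GaGmKernel.Main
import Groth.Agent.Lib.GrpSch.Basic

/-!
The homomorphism of function fields defined by an action.
-/

set_option autoImplicit false
universe u

open CategoryTheory MonoidalCategory CartesianMonoidalCategory MonObj GrpObj AlgebraicGeometry
open Groth.Agent.Lib.RedPts Groth.Agent.Lib.GaGmKernel
open scoped TensorProduct

attribute [local instance] Points.baseAlgebra Groth.Agent.Lib.Slice.fieldAlgebra

namespace Groth.Agent.Lib.Slice

variable {K : Type u} [Field K]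

/-- The morphism of affine test objects. -/
noncomputable def affMap {D D' : Type u} [CommRing D] [Algebra K D] [CommRing D'] [Algebra K D'] (φ : D →ₐ[K] D') :
    aff (K := K) D' ⟶ aff (K := K) D :=
  Over.homMk (Spec.map (CommRingCat.ofHom φ.toRingHom)) (by
    change Spec.map (CommRingCat.ofHom φ.toRingHom) ≫ Spec.map _ = Spec.map _
    rw [← Spec.map_comp, ← CommRingCat.ofHom_comp]
    congr 2
    exact φ.comp_algebraMap)

theorem affMap_comp {D D' D'' : Type u} [CommRing D] [Algebra K D] [CommRing D'] [Algebra K D'] [CommRing D'']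
    [Algebra K D''] (φ : D →ₐ[K] D') (ψ : D' →ₐ[K] D'') : affMap (ψ.comp φ) = affMap ψ ≫ affMap φ := by
  ext1
  change Spec.map (CommRingCat.ofHom (ψ.comp φ).toRingHom) =
    Spec.map (CommRingCat.ofHom ψ.toRingHom) ≫ Spec.map (CommRingCat.ofHom φ.toRingHom)
  rw [← Spec.map_comp]
  rfl

theorem pull_toΓ {D D' : Type u} [CommRing D] [Algebra K D] [CommRing D'] [Algebra K D'] (φ : D →ₐ[K] D') (d : D) :
    pull (affMap φ) (toΓ (K := K) d) = toΓ (K := K) (φ d) := by
  change (Spec.map (CommRingCat.ofHom φ.toRingHom)).appTop (Points.ringHomOf (𝟙 _) d) = Points.ringHomOf (𝟙 _) (φ d)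
  rw [← Points.ringHomOf_comp, Category.comp_id]
  conv_lhs => rw [← Category.id_comp (Spec.map _)]
  exact Affine.ringHomOf_specMap _ _ _

variable {A : Type u} [CommRing A] [Algebra K A] {G : Over (Spec (CommRingCat.of K))}
  (E : ∀ W, (W ⟶ G) ≃ (A →ₐ[K] Γ(W.left, ⊤)))

/-- Affine points of the group. -/
noncomputable def gpt (D : Type u) [CommRing D] [Algebra K D] (p : A →ₐ[K] D) : aff (K := K) D ⟶ G :=
  (E _).symm ((toΓ (K := K)).comp p)

variable (hE : ∀ {W W' : Over (Spec (CommRingCat.of K))} (h : W' ⟶ W) (g : W ⟶ G),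
      E W' (h ≫ g) = (pull h).comp (E W g))
include hE

theorem affMap_gpt {D D' : Type u} [CommRing D] [Algebra K D] [CommRing D'] [Algebra K D'] (φ : D →ₐ[K] D')
    (p : A →ₐ[K] D) : affMap φ ≫ gpt E D p = gpt E D' (φ.comp p) := by
  apply (E _).injective
  rw [hE]
  simp only [gpt, Equiv.apply_symm_apply]
  exact AlgHom.ext fun a => pull_toΓ φ (p a)

variable [GrpObj G] {X : Over (Spec (CommRingCat.of K))} [IsIntegral X.left] (a : AlgGrp.Action G X)

omit hE in
/-- The generic point. -/
noncomputable def genPt : aff (K := K) X.left.functionField ⟶ X :=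
  Over.homMk (X.left.fromSpecStalk (genericPoint X.left)) (specMap_algebraMap X).symm

omit hE in
/-- A field point above the generic point factors through it. -/
theorem exists_factor (Ω : Type u) [Field Ω] [Algebra K Ω] (y : aff (K := K) Ω ⟶ X)
    (hy : y.left.base (IsLocalRing.closedPoint Ω) = genericPoint X.left) :
    ∃ θ : X.left.functionField →ₐ[K] Ω, affMap θ ≫ genPt = y := by
  have key : ∀ (pη : X.left) (h : y.left.base (IsLocalRing.closedPoint Ω) = pη),
      ∃ φ : X.left.presheaf.stalk pη ⟶ CommRingCat.of Ω, Spec.map φ ≫ X.left.fromSpecStalk pη = y.left := by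
    rintro pη rfl
    exact ⟨_, Scheme.Spec_stalkClosedPointTo_fromSpecStalk y.left⟩
  obtain ⟨φ, hφ⟩ := key _ hy
  have h1 : CommRingCat.ofHom (algebraMap K X.left.functionField) ≫ φ = CommRingCat.ofHom (algebraMap K Ω) :=
    Spec.map_injective (by
      rw [Spec.map_comp, specMap_algebraMap X, ← Category.assoc, hφ]
      exact Over.w y)
  exact ⟨{ φ.hom with commutes' := fun r => congr($h1 r) }, Over.OverMorphism.ext hφ⟩

omit hE in
theorem genPt_injective {Ω : Type u} [Field Ω] [Algebra K Ω] :
    ∀ θ θ' : X.left.functionField →ₐ[K] Ω, affMap θ ≫ genPt = affMap θ' ≫ genPt → θ = θ' := by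
  intro θ θ' h
  have h2 := (cancel_mono (X.left.fromSpecStalk (genericPoint X.left))).1 (congrArg Over.Hom.left h)
  exact AlgHom.coe_ringHom_injective (congrArg CommRingCat.Hom.hom (Spec.map_injective h2))

omit hE in
/-- Translate of the generic point. -/
noncomputable def moved (D : Type u) [CommRing D] [Algebra K D]
    (ιD : X.left.functionField →ₐ[K] D) (p : A →ₐ[K] D) : aff (K := K) D ⟶ X :=
  lift (gpt E D p) (affMap ιD ≫ genPt) ≫ a.act

theorem affMap_moved {D D' : Type u} [CommRing D] [Algebra K D] [CommRing D'] [Algebra K D'] (φ : D →ₐ[K] D')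
    (ιD : X.left.functionField →ₐ[K] D) (p : A →ₐ[K] D) :
    affMap φ ≫ moved E a D ιD p = moved E a D' (φ.comp ιD) (φ.comp p) := by
  rw [moved, moved, comp_lift_assoc, affMap_gpt E hE, affMap_comp, Category.assoc]

/-- The moved generic point is generic. -/
theorem exists_theta {R Ω : Type u} [CommRing R] [IsLocalRing R] [Algebra K R] [Field Ω] [Algebra K Ω]
    (emb : R →ₐ[K] Ω)
    (ιR : X.left.functionField →ₐ[K] R)
    (ev : R →ₐ[K] X.left.functionField)
    (hev : ∀ x, ev (ιR x) = x) (p : A →ₐ[K] R) (hp : gpt E _ (ev.comp p) = 1) :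
    ∃ θ : X.left.functionField →ₐ[K] Ω, affMap θ ≫ genPt = moved E a Ω (emb.comp ιR) (emb.comp p) := by
  apply exists_factor
  let y := moved E a R ιR p
  rw [← affMap_moved E hE a emb ιR p]
  have hsurj : Function.Surjective ev.toRingHom := fun x => ⟨ιR x, hev x⟩
  have hloc : IsLocalHom ev.toRingHom := ⟨fun r hr => by
    by_contra hn
    have hmax : (RingHom.ker ev.toRingHom).IsMaximal := RingHom.ker_isMaximal_of_surjective _ hsurj
    have hk : r ∈ RingHom.ker ev.toRingHom := by
      rw [IsLocalRing.eq_maximalIdeal hmax]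
      exact hn
    rw [RingHom.mem_ker.1 hk] at hr
    exact not_isUnit_zero hr⟩
  have h1 : affMap ev ≫ y = genPt := by
    rw [affMap_moved E hE a ev ιR p, moved, hp, GrpSch.act_one, show ev.comp ιR = AlgHom.id K _ from AlgHom.ext hev]
    ext1
    simp [affMap]
  have h2 : y.left.base (IsLocalRing.closedPoint R) = genericPoint X.left := by
    have h3 := congrArg (fun z => z.left.base (IsLocalRing.closedPoint X.left.functionField)) h1
    have hcl : (Spec.map (CommRingCat.ofHom ev.toRingHom)).base (IsLocalRing.closedPoint X.left.functionField) =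
        IsLocalRing.closedPoint R := IsLocalRing.comap_closedPoint ev.toRingHom
    change y.left.base ((Spec.map (CommRingCat.ofHom ev.toRingHom)).base _) =
      (X.left.fromSpecStalk (genericPoint X.left)).base _ at h3
    rw [hcl] at h3
    exact h3.trans Scheme.fromSpecStalk_closedPoint
  change y.left.base ((Spec.map (CommRingCat.ofHom emb.toRingHom)).base (IsLocalRing.closedPoint Ω)) = genericPoint X.left
  have hsp : ((Spec.map (CommRingCat.ofHom emb.toRingHom)).base (IsLocalRing.closedPoint Ω)) ⤳
      (IsLocalRing.closedPoint R : Spec (CommRingCat.of R)) := IsLocalRing.specializes_closedPoint _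
  have h4 := hsp.map y.left.continuous
  rw [h2] at h4
  exact (((genericPoint_specializes _).antisymm h4).eq).symm

/-- Associativity. -/
theorem theta_assoc {Ω Ω' : Type u} [Field Ω] [Algebra K Ω] [Field Ω'] [Algebra K Ω']
    (cΩ : X.left.functionField →ₐ[K] Ω) (pT : A →ₐ[K] Ω)
    (θ : X.left.functionField →ₐ[K] Ω)
    (hθ : affMap θ ≫ genPt = moved E a Ω cΩ pT) (c' Ψ Θ : Ω →ₐ[K] Ω')
    (hc : ∀ x, Θ (cΩ x) = c' (θ x)) (hΨ : ∀ x, Ψ (cΩ x) = c' (cΩ x))
    (hp : gpt E Ω' (Θ.comp pT) * gpt E Ω' (c'.comp pT) = gpt E Ω' (Ψ.comp pT)) :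
    ∀ x, Θ (θ x) = Ψ (θ x) := by
  have h : affMap (Θ.comp θ) ≫ genPt = affMap (Ψ.comp θ) ≫ genPt := by
    rw [affMap_comp, affMap_comp, Category.assoc, Category.assoc, hθ, affMap_moved E hE, affMap_moved E hE,
      show Θ.comp cΩ = c'.comp θ from AlgHom.ext hc, show Ψ.comp cΩ = c'.comp cΩ from AlgHom.ext hΨ,
      moved, moved, affMap_comp θ c', Category.assoc, hθ, affMap_moved E hE, moved, ← GrpSch.act_mul, hp]
  exact fun x => DFunLike.congr_fun (genPt_injective _ _ h) x

/-- An action which fixes the generic point under the generic translation is trivial. -/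
theorem act_eq_snd [IsSeparated X.hom] [LocallyOfFiniteType X.hom] {Ω : Type u} [Field Ω] [Algebra K Ω]
    (cΩ : X.left.functionField →ₐ[K] Ω) (pT : A →ₐ[K] Ω)
    (hinj : 
      Function.Injective (Algebra.TensorProduct.lift pT cΩ (fun _ _ => Commute.all _ _)))
    (hfix : moved E a Ω cΩ pT = affMap cΩ ≫ genPt) : a.act = snd G X := by
  classical
  let L := X.left.functionField
  ext1
  have key : ∀ x : X.left, ∃ (R : Type u) (_ : CommRing R) (j : Spec (CommRingCat.of R) ⟶ X.left),
      IsOpenImmersion j ∧ x ∈ Set.range j.base ∧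
      ∀ (W : Over (Spec (CommRingCat.of K))) (h : W ⟶ G ⊗ X) (q : W.left ⟶ Spec (CommRingCat.of R)),
        q ≫ j = (h ≫ snd G X).left → h.left ≫ a.act.left = h.left ≫ (snd G X).left := by
    intro x
    obtain ⟨U, hU, hx, -⟩ := exists_isAffineOpen_mem_and_subset (x := x) (U := ⊤) trivial
    have hne : Nonempty U := ⟨⟨x, hx⟩⟩
    let R := Γ(X.left, U)
    let _ : Algebra K R := (Spec.preimage (hU.fromSpec ≫ X.hom)).hom.toAlgebra
    have hj : Spec.map (CommRingCat.ofHom (algebraMap K R)) = hU.fromSpec ≫ X.hom := Spec.map_preimage _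
    have hη : genericPoint X.left ∈ U :=
      ((genericPoint_spec X.left).mem_open_set_iff U.isOpen).2 (by simpa using ⟨x, hx⟩)
    have hg : Spec.map (X.left.presheaf.germ U (genericPoint X.left) hη) ≫ hU.fromSpec =
        X.left.fromSpecStalk (genericPoint X.left) := hU.fromSpecStalk_eq_fromSpecStalk hη
    let ρ : R →ₐ[K] L :=
      { (X.left.presheaf.germ U (genericPoint X.left) hη).hom with
        commutes' := fun r => by
          have h1 : CommRingCat.ofHom (algebraMap K R) ≫ X.left.presheaf.germ U (genericPoint X.left) hη =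
              CommRingCat.ofHom (algebraMap K L) :=
            Spec.map_injective (by rw [Spec.map_comp, hj, specMap_algebraMap X, ← Category.assoc, hg])
          exact congr($h1 r) }
    have hρ : Function.Injective ρ := germ_injective_of_isIntegral _ _ hη
    let jU : aff (K := K) R ⟶ X := Over.homMk hU.fromSpec hj.symm
    have hjη : affMap ρ ≫ jU = genPt := Over.OverMorphism.ext hg
    refine ⟨R, inferInstance, hU.fromSpec, inferInstance, by rw [hU.range_fromSpec]; exact hx, fun W h q hq => ?_⟩
    -- the universal piece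
    let Q := A ⊗[K] R
    let c := Algebra.TensorProduct.lift pT (cΩ.comp ρ) (fun _ _ => Commute.all _ _)
    have hc : Function.Injective c := by
      have : c = (Algebra.TensorProduct.lift pT cΩ (fun _ _ => Commute.all _ _)).comp
          (Algebra.TensorProduct.map (AlgHom.id K A) ρ) :=
        Algebra.TensorProduct.ext' fun u v => by simp [c]
      rw [this]
      exact hinj.comp (Module.Flat.lTensor_preserves_injective_linearMap (M := A) ρ.toLinearMap hρ)
    let g := gpt E Q (Algebra.TensorProduct.includeLeft : A →ₐ[K] Q)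
    let u := lift g (affMap (Algebra.TensorProduct.includeRight : R →ₐ[K] Q) ≫ jU)
    have hu : u ≫ a.act = u ≫ snd G X := by
      have hred : IsReduced (aff (K := K) Q).left := by
        have : _root_.IsReduced Q := isReduced_of_injective c hc
        exact inferInstanceAs (IsReduced (Spec (CommRingCat.of Q)))
      have hdom : IsDominant (affMap c).left := by
        refine ⟨(PrimeSpectrum.denseRange_comap_iff_ker_le_nilRadical c.toRingHom).2 ?_⟩
        rw [(RingHom.injective_iff_ker_eq_bot c.toRingHom).1 hc]
        exact bot_le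
      have h1 : affMap c ≫ u ≫ a.act = affMap c ≫ u ≫ snd G X := by
        have e1 : c.comp Algebra.TensorProduct.includeLeft = pT := AlgHom.ext fun z => by simp [c]
        have e2 : c.comp Algebra.TensorProduct.includeRight = cΩ.comp ρ := AlgHom.ext fun z => by simp [c]
        have e3 : affMap c ≫ u = lift (gpt E Ω pT) (affMap cΩ ≫ genPt) := by
          rw [comp_lift, affMap_gpt E hE, ← Category.assoc, ← affMap_comp, e1, e2, affMap_comp, Category.assoc, hjη]
        rw [← Category.assoc, ← Category.assoc, e3, lift_snd]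
        exact hfix
      ext1
      have hw : (u ≫ a.act).left ≫ X.hom = (u ≫ snd G X).left ≫ X.hom := by rw [Over.w, Over.w]
      exact ext_of_isDominant_of_isSeparated X.hom hw (affMap c).left (congrArg Over.Hom.left h1)
    -- factor the given point through it
    let q' : W ⟶ aff (K := K) R := Over.homMk q (by
      change q ≫ Spec.map (CommRingCat.ofHom (algebraMap K R)) = W.hom
      rw [hj, reassoc_of% hq]
      exact Over.w (h ≫ snd G X))
    let r : W ⟶ aff (K := K) Q := (ptEq W).symm
      (Algebra.TensorProduct.lift (E W (h ≫ fst G X)) (ptEq W q') (fun _ _ => Commute.all _ _))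
    have hr1 : r ≫ g = h ≫ fst G X := by
      apply (E W).injective
      rw [hE]
      simp only [g, gpt, Equiv.apply_symm_apply, toΓ]
      rw [← AlgHom.comp_assoc, ← ptEq_comp, Category.comp_id]
      simp only [r, Equiv.apply_symm_apply]
      exact AlgHom.ext fun z => (Algebra.TensorProduct.lift_tmul (E W (h ≫ fst G X)) (ptEq W q') (fun _ _ => Commute.all _ _) z 1).trans (by rw [map_one, _root_.mul_one])
    have hr2 : r ≫ affMap (Algebra.TensorProduct.includeRight : R →ₐ[K] Q) = q' := by
      apply (ptEq W).injective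
      refine AlgHom.ext fun z => ?_
      rw [ptEq_comp, AlgHom.comp_apply]
      have : ptEq (aff (K := K) Q) (affMap (Algebra.TensorProduct.includeRight : R →ₐ[K] Q)) z =
          toΓ (K := K) ((1 : A) ⊗ₜ[K] z) := by
        change Points.ringHomOf (Spec.map _) z = Points.ringHomOf (𝟙 _) _
        conv_lhs => rw [← Category.id_comp (Spec.map _)]
        exact Affine.ringHomOf_specMap _ _ _
      rw [this, toΓ, ← AlgHom.comp_apply, ← ptEq_comp, Category.comp_id]
      simp [r]
    have hru : r ≫ u = h := by
      apply CartesianMonoidalCategory.hom_ext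
      · simp [u, hr1]
      · simp only [u, Category.assoc, lift_snd]
        rw [← Category.assoc, hr2]
        exact Over.OverMorphism.ext hq
    have := congrArg (fun z => (r ≫ z).left) hu
    simp only [← Category.assoc, hru] at this
    exact this
  choose R _ j hj hx hR using key
  let 𝒰 : X.left.OpenCover :=
    { I₀ := X.left
      X := fun x => Spec (CommRingCat.of (R x))
      f := j
      mem₀ := by
        rw [Scheme.presieve₀_mem_precoverage_iff]
        exact ⟨fun x => ⟨x, hx x⟩, fun x => hj x⟩ }
  refine Scheme.Cover.hom_ext (𝒰.pullback₁ (snd G X).left) _ _ fun x => ?_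
  change Limits.pullback.fst (snd G X).left (j x) ≫ a.act.left = Limits.pullback.fst (snd G X).left (j x) ≫ (snd G X).left
  exact hR x (Over.mk (Limits.pullback.fst (snd G X).left (j x) ≫ (G ⊗ X).hom))
    (Over.homMk (Limits.pullback.fst (snd G X).left (j x))) (Limits.pullback.snd (snd G X).left (j x))
    Limits.pullback.condition.symm

end Groth.Agent.Lib.Slice
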