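import Mathlib

/-!
Fields with a rational action of the additive or of the multiplicative group are rational over
a subfield of invariants.
-/

set_option autoImplicit false
universe u
open Polynomial IntermediateField

namespace Groth.Agent.Lib.Slice

variable {K L : Type u} [Field K] [Field L] [Algebra K L]

/-- `x` is rational of one variable over a finitely generated subfield. -/
def IsRationalLine (K L : Type u) [Field K] [Field L] [Algebra K L] : Prop :=
  ∃ (s : Finset L) (t : L), Transcendental (IntermediateField.adjoin K (s : Set L)) t ∧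
    IntermediateField.adjoin K (insert t (s : Set L)) = ⊤

theorem isRationalLine_of (gen : Finset L) (hgen : IntermediateField.adjoin K (gen : Set L) = ⊤)
    (F : IntermediateField K L) (t : L) (htr : ∀ p : L[X], (∀ i, p.coeff i ∈ F) → p.eval t = 0 → p = 0)
    (htop : ∀ x, x ∈ IntermediateField.adjoin K (insert t (F : Set L))) : IsRationalLine K L := by
  classical
  choose T hT hxT using fun x : L => exists_finset_of_mem_adjoin (htop x)
  let s := (gen.biUnion T).filter (fun z => z ∈ F)
  have hsF : IntermediateField.adjoin K (s : Set L) ≤ F := adjoin_le_iff.2 fun z hz => (Finset.mem_filter.1 hz).2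
  refine ⟨s, t, ?_, ?_⟩
  · rintro ⟨p, hp0, hp⟩
    rw [aeval_def, ← eval_map] at hp
    exact hp0 ((Polynomial.map_eq_zero _).1
      (htr _ (fun i => by rw [coeff_map]; exact hsF (p.coeff i).2) hp))
  · rw [eq_top_iff, ← hgen, adjoin_le_iff]
    intro x hx
    refine (adjoin.mono K _ _ (fun z hz => ?_)) (hxT x)
    rcases hT x hz with h | h
    · exact Set.mem_insert_iff.2 (Or.inl h)
    · exact Set.mem_insert_of_mem _ (Finset.mem_filter.2 ⟨Finset.mem_biUnion.2 ⟨x, hx, hz⟩, h⟩)

section act

variable (θ : L →ₐ[K] RatFunc L)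

/-- The invariant elements. -/
noncomputable def invariants : IntermediateField K L where
  carrier := {x | θ x = RatFunc.C x}
  mul_mem' {a b} ha hb := by simp_all
  one_mem' := by simp
  add_mem' {a b} ha hb := by simp_all
  zero_mem' := by simp
  algebraMap_mem' r := by
    change θ (algebraMap K L r) = RatFunc.C (algebraMap K L r)
    rw [AlgHom.commutes, IsScalarTower.algebraMap_apply K L (RatFunc L)]
    rfl
  inv_mem' a ha := by simp_all

theorem mem_invariants {x : L} : x ∈ invariants θ ↔ θ x = RatFunc.C x := Iff.rfl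

end act

section additive

variable (θ : L →ₐ[K] RatFunc L)

theorem hasseDeriv_map_eq {R S : Type*} [CommRing R] [CommRing S] (g : R →+* S) (P : R[X]) (i : ℕ) :
    hasseDeriv i (P.map g) = (hasseDeriv i P).map g := by
  ext j
  simp [hasseDeriv_coeff, coeff_map]

/-- The shift of a polynomial. -/
noncomputable def addShift (P : L[X]) : (RatFunc L)[X] := taylor RatFunc.X (P.map RatFunc.C)

theorem coeff_addShift (P : L[X]) (i : ℕ) : (addShift P).coeff i = algebraMap L[X] (RatFunc L) (hasseDeriv i P) := by
  rw [addShift, taylor_coeff, ← RatFunc.algebraMap_X, hasseDeriv_map_eq, eval_map,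
    show (RatFunc.C : L →+* RatFunc L) = (algebraMap L[X] (RatFunc L)).comp Polynomial.C from
      RingHom.ext fun a => (RatFunc.algebraMap_C a).symm,
    ← hom_eval₂, eval₂_C_X]

variable (hθ : ∀ x : L, (θ x).num.map θ.toRingHom * addShift (θ x).denom =
  addShift (θ x).num * (θ x).denom.map θ.toRingHom)

include hθ

theorem map_num_denom (x : L) :
    (θ x).num.map θ.toRingHom = addShift (θ x).num ∧ (θ x).denom.map θ.toRingHom = addShift (θ x).denom := by
  have hQ : (θ x).denom.Monic := RatFunc.monic_denom _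
  have hd : addShift (θ x).denom = (θ x).denom.map θ.toRingHom := by
    have hco : IsCoprime (addShift (θ x).denom) (addShift (θ x).num) :=
      ((RatFunc.isCoprime_num_denom (θ x)).symm.map (mapRingHom RatFunc.C)).map (taylorAlgHom RatFunc.X).toRingHom
    have hdvd : addShift (θ x).denom ∣ (θ x).denom.map θ.toRingHom :=
      hco.dvd_of_dvd_mul_right 
        ⟨(θ x).num.map θ.toRingHom, ((mul_comm _ _).trans (hθ x).symm).trans (mul_comm _ _)⟩
    refine eq_of_monic_of_associated ((leadingCoeff_taylor _ _).trans (hQ.map RatFunc.C)) (hQ.map _) ?_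
    refine associated_of_dvd_of_natDegree_le hdvd (hQ.map _).ne_zero ?_
    rw [addShift, natDegree_taylor, natDegree_map, natDegree_map]
  refine ⟨?_, hd.symm⟩
  have := hθ x
  rw [hd] at this
  exact mul_right_cancel₀ (hQ.map _).ne_zero this

theorem map_coeff (x : L) (i : ℕ) :
    θ ((θ x).num.coeff i) = algebraMap L[X] (RatFunc L) (hasseDeriv i (θ x).num) ∧
      θ ((θ x).denom.coeff i) = algebraMap L[X] (RatFunc L) (hasseDeriv i (θ x).denom) := by
  obtain ⟨h1, h2⟩ := map_num_denom θ hθ x
  exact ⟨by simpa [coeff_map, coeff_addShift] using congrArg (fun p => p.coeff i) h1,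
    by simpa [coeff_map, coeff_addShift] using congrArg (fun p => p.coeff i) h2⟩

theorem coeff_of_polynomial {x : L} {P : L[X]} (hP : θ x = algebraMap L[X] (RatFunc L) P) (i : ℕ) :
    θ (P.coeff i) = algebraMap L[X] (RatFunc L) (hasseDeriv i P) := by
  have h := (map_coeff θ hθ x i).1
  rwa [hP, RatFunc.num_algebraMap] at h

theorem eq_div (x : L) : (θ x).denom.coeff 0 ≠ 0 ∧ x = (θ x).num.coeff 0 / (θ x).denom.coeff 0 := by
  obtain ⟨h1, h2⟩ := map_coeff θ hθ x 0
  rw [hasseDeriv_zero'] at h1 h2
  have hne : (θ x).denom.coeff 0 ≠ 0 := fun e => RatFunc.denom_ne_zero (θ x) (by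
    rw [e, map_zero] at h2
    exact RatFunc.algebraMap_injective L (h2.symm.trans (map_zero _).symm))
  refine ⟨hne, θ.toRingHom.injective ?_⟩
  change θ x = θ _
  rw [map_div₀, h1, h2, RatFunc.num_div_denom]

/-- A field with a non-trivial action of the additive group is rational over a subfield. -/
theorem isRationalLine_additive (gen : Finset L) (hgen : IntermediateField.adjoin K (gen : Set L) = ⊤)
    (hnt : ∃ x, θ x ≠ RatFunc.C x) : IsRationalLine K L := by
  classical
  set F := invariants θ
  -- elements with constant image are invariant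
  have hconst : ∀ {x : L} {P : L[X]}, θ x = algebraMap L[X] (RatFunc L) P → P.natDegree = 0 → x ∈ F := by
    intro x P hP hd
    have h := coeff_of_polynomial θ hθ hP 0
    rw [hasseDeriv_zero', ← hP] at h
    have hx : P.coeff 0 = x := θ.toRingHom.injective h
    change θ x = RatFunc.C x
    rw [hP, eq_C_of_natDegree_eq_zero hd, hx, RatFunc.algebraMap_C]
  -- a non-constant polynomial exists
  have hex : ∃ d, 0 < d ∧ ∃ (x : L) (P : L[X]), θ x = algebraMap L[X] (RatFunc L) P ∧ P.natDegree = d := by
    by_contra hcon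
    push Not at hcon
    obtain ⟨x, hx⟩ := hnt
    have key : ∀ y P, θ y = algebraMap L[X] (RatFunc L) P → y ∈ F := fun y P hP => hconst hP (by
      by_contra hne
      exact hcon _ (Nat.pos_of_ne_zero hne) y P hP rfl)
    refine hx (mem_invariants θ |>.1 ?_)
    rw [(eq_div θ hθ x).2]
    exact div_mem (key _ _ ((map_coeff θ hθ x 0).1)) (key _ _ ((map_coeff θ hθ x 0).2))
  set m := Nat.find hex
  obtain ⟨hm, s, A, hA, hAd⟩ : 0 < m ∧ ∃ (x : L) (P : L[X]), θ x = algebraMap L[X] (RatFunc L) P ∧ P.natDegree = m :=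
    Nat.find_spec hex
  have hsmall : ∀ {x : L} {P : L[X]}, θ x = algebraMap L[X] (RatFunc L) P → P.natDegree < m → P.natDegree = 0 := by
    intro x P hP hlt
    by_contra hne
    exact Nat.find_min hex hlt ⟨Nat.pos_of_ne_zero hne, x, P, hP, rfl⟩
  have hAm : A.coeff m ≠ 0 := by
    rw [show m = A.natDegree from hAd.symm, coeff_natDegree]
    exact leadingCoeff_ne_zero.2 fun e => by rw [e, natDegree_zero] at hAd; exact hm.ne' hAd.symm
  -- binomial coefficients
  have hchoose : ∀ {x : L} {P : L[X]}, θ x = algebraMap L[X] (RatFunc L) P → ∀ j, 0 < j → j < m → j < P.natDegree →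
      (P.natDegree.choose j : L) = 0 := by
    intro x P hP j hj hjm hjd
    have hdeg : (hasseDeriv (P.natDegree - j) P).natDegree < m :=
      lt_of_le_of_lt (natDegree_hasseDeriv_le _ _) (by omega)
    have h0 := hsmall (coeff_of_polynomial θ hθ hP _) hdeg
    have hc : (hasseDeriv (P.natDegree - j) P).coeff j = 0 := coeff_eq_zero_of_natDegree_lt (by omega)
    rw [hasseDeriv_coeff, show j + (P.natDegree - j) = P.natDegree by omega, Nat.choose_symm hjd.le, mul_eq_zero] at hc
    exact hc.resolve_right (by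
      rw [coeff_natDegree, leadingCoeff_eq_zero]
      intro e; rw [e, natDegree_zero] at hjd; omega)
  have hdvd : ∀ {x : L} {P : L[X]}, θ x = algebraMap L[X] (RatFunc L) P → m ∣ P.natDegree := by
    intro x P hP
    by_contra hcon
    set d := P.natDegree
    have hr : 0 < d % m := Nat.pos_of_ne_zero fun e => hcon (Nat.dvd_of_mod_eq_zero e)
    have hfrob : (1 + X : L[X]) ^ m = 1 + X ^ m := by
      ext k
      rw [coeff_one_add_X_pow, coeff_add, coeff_one, coeff_X_pow]
      rcases Nat.eq_zero_or_pos k with rfl | hk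
      · simp [hm.ne, hm.ne']
      · rcases lt_trichotomy k m with h | rfl | h
        · simpa [hk.ne', h.ne, hAd] using hchoose hA k hk h (hAd.symm ▸ h)
        · simp [hk.ne']
        · simp [hk.ne', h.ne', Nat.choose_eq_zero_of_lt h]
    obtain ⟨g, hg⟩ : (X : L[X]) ^ m ∣ (1 + X ^ m) ^ (d / m) - 1 := by
      have := sub_dvd_pow_sub_pow ((1 : L[X]) + X ^ m) 1 (d / m)
      simpa using this
    have h1 : (1 + X : L[X]) ^ d = (1 + X) ^ (d % m) + X ^ m * (g * (1 + X) ^ (d % m)) := by
      conv_lhs => rw [← Nat.div_add_mod d m, pow_add, pow_mul, hfrob, eq_add_of_sub_eq hg]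
      ring
    have h2 := congrArg (fun p => p.coeff (d % m)) h1
    simp only [coeff_add, coeff_one_add_X_pow, coeff_X_pow_mul', Nat.choose_self, Nat.cast_one,
      (Nat.mod_lt d hm).not_ge, ↓reduceIte, add_zero] at h2
    rcases eq_or_ne (d % m) d with he | he
    · have hlt : d < m := by have := Nat.mod_lt d hm; omega
      have := hsmall hP hlt
      omega
    · rw [hchoose hP _ hr (Nat.mod_lt d hm) (lt_of_le_of_ne (Nat.mod_le d m) he)] at h2
      exact zero_ne_one h2
  have hlead : ∀ {x : L} {P : L[X]}, θ x = algebraMap L[X] (RatFunc L) P → P.leadingCoeff ∈ F := by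
    intro x P hP
    rw [← coeff_natDegree]
    refine hconst (coeff_of_polynomial θ hθ hP _) (Nat.le_zero.1 ?_)
    exact (natDegree_hasseDeriv_le _ _).trans (by simp)
  -- polynomials in the slice
  let R := IntermediateField.adjoin K (insert s (F : Set L))
  have hFR : ∀ x ∈ F, x ∈ R := fun x hx => IntermediateField.subset_adjoin _ _ (Set.mem_insert_of_mem _ hx)
  have hsR : s ∈ R := IntermediateField.subset_adjoin _ _ (Set.mem_insert _ _)
  have hmem : ∀ d (x : L) (P : L[X]), θ x = algebraMap L[X] (RatFunc L) P → P.natDegree = d → x ∈ R := by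
    intro d
    induction d using Nat.strong_induction_on with
    | _ d ih =>
      intro x P hP hd
      rcases Nat.eq_zero_or_pos d with rfl | hdpos
      · exact hFR _ (hconst hP hd)
      obtain ⟨k, hk⟩ := hdvd hP
      set c := P.leadingCoeff / A.leadingCoeff ^ k
      have hcF : c ∈ F := div_mem (hlead hP) (pow_mem (hlead hA) k)
      have hP' : θ (x - c * s ^ k) = algebraMap L[X] (RatFunc L) (P - C c * A ^ k) := by
        rw [map_sub, map_mul, map_pow, hP, hA, (mem_invariants θ).1 hcF, map_sub, map_mul, map_pow,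
          RatFunc.algebraMap_C]
      have hA0 : A ≠ 0 := fun e => hAm (by rw [e, coeff_zero])
      have hc0 : c ≠ 0 := div_ne_zero (leadingCoeff_ne_zero.2 fun e => by rw [e, natDegree_zero] at hd; omega)
        (pow_ne_zero _ (leadingCoeff_ne_zero.2 hA0))
      have hlt : (P - C c * A ^ k).natDegree < d := by
        have hcoeff : (P - C c * A ^ k).coeff d = 0 := by
          have hpow : (A ^ k).coeff d = A.leadingCoeff ^ k := by
            rw [← coeff_pow_mul_natDegree, hAd, mul_comm k, ← hk, hd]
          rw [coeff_sub, coeff_C_mul, hpow, ← hd, coeff_natDegree,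
            div_mul_cancel₀ _ (pow_ne_zero _ (leadingCoeff_ne_zero.2 hA0)), sub_self]
        have hle : (P - C c * A ^ k).natDegree ≤ d := (natDegree_sub_le _ _).trans (max_le hd.le (by
          rw [natDegree_C_mul hc0, natDegree_pow, hAd, mul_comm, ← hk, hd]))
        rcases eq_or_ne (P - C c * A ^ k) 0 with h0 | h0
        · rw [h0, natDegree_zero]; exact hdpos
        · exact lt_of_le_of_ne hle fun e => h0 (leadingCoeff_eq_zero.1 (by rw [← coeff_natDegree, e, hcoeff]))
      have := add_mem (ih _ hlt _ _ hP' rfl) (mul_mem (hFR _ hcF) (pow_mem hsR k))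
      simpa using this
  refine isRationalLine_of gen hgen F s (fun p hp hev => ?_) fun x => ?_
  · by_contra hp0
    have hcomp : p.comp A = 0 := by
      refine RatFunc.algebraMap_injective L ?_
      rw [map_zero, ← map_zero θ, ← hev, eval_eq_sum, comp, eval₂_eq_sum]
      simp only [Polynomial.sum, map_sum]
      refine Finset.sum_congr rfl fun i _ => ?_
      rw [map_mul, map_mul, map_pow, map_pow, hA, (mem_invariants θ).1 (hp i), RatFunc.algebraMap_C]
    rcases comp_eq_zero_iff.1 hcomp with h | ⟨-, h⟩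
    · exact hp0 h
    · rw [h, natDegree_C] at hAd
      exact hm.ne hAd
  · rw [(eq_div θ hθ x).2]
    exact div_mem (hmem _ _ _ ((map_coeff θ hθ x 0).1) rfl) (hmem _ _ _ ((map_coeff θ hθ x 0).2) rfl)

end additive

section multiplicative

variable (θ : L →ₐ[K] RatFunc L)

/-- The substitution `T ↦ S T`. -/
noncomputable def mulShiftHom : L[X] →+* (RatFunc L)[X] :=
  eval₂RingHom (Polynomial.C.comp RatFunc.C) (C RatFunc.X * X)

theorem coeff_mulShiftHom (P : L[X]) (i : ℕ) :
    (mulShiftHom P).coeff i = RatFunc.C (P.coeff i) * RatFunc.X ^ i := by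
  induction P using Polynomial.induction_on' with
  | add p q hp hq => simp only [map_add, coeff_add, hp, hq, map_add, add_mul]
  | monomial k a =>
    simp only [mulShiftHom, coe_eval₂RingHom, eval₂_monomial, RingHom.comp_apply, mul_pow, ← map_pow, coeff_C_mul,
      coeff_X_pow, coeff_monomial]
    split_ifs with h1 h2 h3
    · subst h1; ring
    · exact absurd h1.symm h2
    · exact absurd h3.symm h1
    · simp

variable (hθ : ∀ x : L, (θ x).num.map θ.toRingHom * mulShiftHom (θ x).denom =
  mulShiftHom (θ x).num * (θ x).denom.map θ.toRingHom)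

/-- Weight vectors. -/
def IsWeight (k : ℤ) (x : L) : Prop := θ x = RatFunc.C x * RatFunc.X ^ k

include hθ

theorem isWeight_coeff (x : L) (i : ℕ) :
    IsWeight θ ((i : ℤ) - (θ x).denom.natDegree) ((θ x).num.coeff i) ∧
      IsWeight θ ((i : ℤ) - (θ x).denom.natDegree) ((θ x).denom.coeff i) := by
  set P := (θ x).num
  set Q := (θ x).denom
  have hQ : Q.Monic := RatFunc.monic_denom _
  set d := Q.natDegree with hddef
  have hQd : Q.coeff d = 1 := hQ.coeff_natDegree
  have hX : (RatFunc.X : RatFunc L) ≠ 0 := RatFunc.X_ne_zero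
  have hd : mulShiftHom Q = C (RatFunc.X ^ d) * Q.map θ.toRingHom := by
    have hco : IsCoprime (mulShiftHom Q) (mulShiftHom P) :=
      (RatFunc.isCoprime_num_denom (θ x)).symm.map mulShiftHom
    obtain ⟨c, hc⟩ : mulShiftHom Q ∣ Q.map θ.toRingHom := hco.dvd_of_dvd_mul_right
      ⟨P.map θ.toRingHom, ((mul_comm _ _).trans (hθ x).symm).trans (mul_comm _ _)⟩
    have hne : mulShiftHom Q ≠ 0 := fun e => by
      have := congrArg (fun p => p.coeff d) e
      simp [coeff_mulShiftHom, hQd, RatFunc.X_ne_zero] at this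
    have hc0 : c ≠ 0 := fun e => (hQ.map θ.toRingHom).ne_zero (by rw [hc, e, mul_zero])
    have hdeg : (mulShiftHom Q).natDegree = d := by
      refine natDegree_eq_of_le_of_coeff_ne_zero (natDegree_le_iff_coeff_eq_zero.2 fun k hk => ?_) ?_
      · rw [coeff_mulShiftHom, coeff_eq_zero_of_natDegree_lt hk, map_zero, zero_mul]
      · simp [coeff_mulShiftHom, hQd, RatFunc.X_ne_zero]
    have hcdeg := congrArg natDegree hc
    rw [natDegree_mul hne hc0, natDegree_map, hdeg, ← hddef] at hcdeg
    obtain ⟨e, rfl⟩ := natDegree_eq_zero.1 (show c.natDegree = 0 by omega)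
    have hl := congrArg (fun p => p.coeff d) hc
    simp [coeff_mulShiftHom, hQd, RatFunc.X_ne_zero] at hl
    have he : RatFunc.X ^ d * e = (1 : RatFunc L) := by simpa [hQd] using hl.symm
    rw [hc, ← mul_assoc, mul_comm (C (RatFunc.X ^ d)), mul_assoc, ← map_mul, he, map_one, mul_one]
  have hp : mulShiftHom P = C (RatFunc.X ^ d) * P.map θ.toRingHom := by
    refine mul_right_cancel₀ (hQ.map θ.toRingHom).ne_zero ?_
    rw [← hθ x, hd]
    ring
  have key : ∀ R : L[X], mulShiftHom R = C (RatFunc.X ^ d) * R.map θ.toRingHom →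
      IsWeight θ ((i : ℤ) - d) (R.coeff i) := by
    intro R hR
    have := congrArg (fun p => p.coeff i) hR
    simp only [coeff_mulShiftHom, coeff_C_mul, coeff_map] at this
    change θ (R.coeff i) = _
    rw [zpow_sub₀ hX, zpow_natCast, zpow_natCast, ← mul_div_assoc, eq_div_iff (pow_ne_zero _ hX), this]
    exact mul_comm _ _
  exact ⟨key P hp, key Q hd⟩

theorem eq_sum_div (x : L) :
    x = (θ x).num.eval 1 / (θ x).denom.eval 1 := by
  have hX : (RatFunc.X : RatFunc L) ≠ 0 := RatFunc.X_ne_zero
  have key : ∀ R : L[X], (∀ i : ℕ, IsWeight θ ((i : ℤ) - (θ x).denom.natDegree) (R.coeff i)) →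
      θ (R.eval 1) = algebraMap L[X] (RatFunc L) R * RatFunc.X ^ (-((θ x).denom.natDegree : ℤ)) := by
    intro R hR
    conv_rhs => rw [R.as_sum_range, map_sum, Finset.sum_mul]
    rw [eval_eq_sum_range, map_sum]
    refine Finset.sum_congr rfl fun i _ => ?_
    rw [one_pow, mul_one, hR i, ← C_mul_X_pow_eq_monomial, map_mul, map_pow, RatFunc.algebraMap_C, RatFunc.algebraMap_X,
      mul_assoc, ← zpow_natCast, ← zpow_add₀ hX, sub_eq_add_neg]
  have h1 := key _ fun i : ℕ => (isWeight_coeff θ hθ x i).1
  have h2 := key _ fun i : ℕ => (isWeight_coeff θ hθ x i).2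
  refine θ.toRingHom.injective ?_
  change θ x = θ _
  rw [map_div₀, h1, h2, mul_div_mul_right _ _ (zpow_ne_zero _ hX), RatFunc.num_div_denom]

/-- A field with a non-trivial action of the multiplicative group is rational over a subfield. -/
theorem isRationalLine_multiplicative (gen : Finset L) (hgen : IntermediateField.adjoin K (gen : Set L) = ⊤)
    (hnt : ∃ x, θ x ≠ RatFunc.C x) : IsRationalLine K L := by
  classical
  have hX : (RatFunc.X : RatFunc L) ≠ 0 := RatFunc.X_ne_zero
  set F := invariants θ
  let W : AddSubgroup ℤ :=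
    { carrier := {k | ∃ x ≠ 0, IsWeight θ k x}
      zero_mem' := ⟨1, one_ne_zero, by simp [IsWeight]⟩
      add_mem' := by
        rintro a b ⟨x, hx, hxw⟩ ⟨y, hy, hyw⟩
        refine ⟨x * y, mul_ne_zero hx hy, ?_⟩
        change θ (x * y) = _
        rw [map_mul, hxw, hyw, map_mul, zpow_add₀ hX]; ring
      neg_mem' := by
        rintro a ⟨x, hx, hxw⟩
        refine ⟨x⁻¹, inv_ne_zero hx, ?_⟩
        change θ x⁻¹ = _
        rw [map_inv₀, hxw, map_inv₀, mul_inv, zpow_neg] }
  obtain ⟨n, hn⟩ := Int.subgroup_cyclic W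
  obtain ⟨u, hu, huw⟩ : n ∈ W := by rw [hn]; exact AddSubgroup.mem_closure_singleton.2 ⟨1, one_zsmul _⟩
  let R := IntermediateField.adjoin K (insert u (F : Set L))
  have hsR : u ∈ R := IntermediateField.subset_adjoin _ _ (Set.mem_insert _ _)
  have hwR : ∀ k x, IsWeight θ k x → x ∈ R := by
    intro k x hx
    rcases eq_or_ne x 0 with rfl | hx0
    · exact zero_mem R
    obtain ⟨l, hl⟩ := AddSubgroup.mem_closure_singleton.1
      (show k ∈ AddSubgroup.closure {n} by rw [← hn]; exact ⟨x, hx0, hx⟩)
    have hc : x * (u ^ l)⁻¹ ∈ F := by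
      change θ _ = _
      rw [map_mul, map_inv₀, map_zpow₀, hx, huw, map_mul, map_inv₀, map_zpow₀, mul_zpow, ← hl, smul_eq_mul,
        mul_comm l n, zpow_mul]
      have : (RatFunc.X ^ n : RatFunc L) ^ l ≠ 0 := zpow_ne_zero _ (zpow_ne_zero _ hX)
      rw [mul_inv, mul_mul_mul_comm, mul_inv_cancel₀ this, mul_one]
    have := mul_mem (IntermediateField.subset_adjoin K _ (Set.mem_insert_of_mem _ hc) : x * (u ^ l)⁻¹ ∈ R)
      (zpow_mem hsR l)
    rwa [inv_mul_cancel_right₀ (zpow_ne_zero _ hu)] at this
  have hn0 : n ≠ 0 := by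
    rintro rfl
    obtain ⟨x, hx⟩ := hnt
    have hw0 : ∀ k y, IsWeight θ k y → y ∈ F := by
      intro k y hy
      rcases eq_or_ne y 0 with rfl | hy0
      · exact zero_mem F
      have hk : k ∈ W := ⟨y, hy0, hy⟩
      rw [hn, AddSubgroup.mem_closure_singleton] at hk
      obtain ⟨l, hl⟩ := hk
      change θ y = _
      rw [hy, ← hl, smul_zero, zpow_zero, mul_one]
    refine hx ((mem_invariants θ).1 ?_)
    rw [eq_sum_div θ hθ x, eval_eq_sum_range, eval_eq_sum_range]
    exact div_mem (sum_mem fun i _ => mul_mem (hw0 _ _ (isWeight_coeff θ hθ x i).1) (pow_mem (one_mem F) i))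
      (sum_mem fun i _ => mul_mem (hw0 _ _ (isWeight_coeff θ hθ x i).2) (pow_mem (one_mem F) i))
  refine isRationalLine_of gen hgen F u (fun p hp hev => ?_) fun x => ?_
  · have h1 : ∑ i ∈ p.support, RatFunc.C (p.coeff i * u ^ i) * (RatFunc.X ^ n) ^ i = 0 := by
      rw [← map_zero θ, ← hev, eval_eq_sum, Polynomial.sum, map_sum]
      refine Finset.sum_congr rfl fun i _ => ?_
      rw [map_mul, map_mul, map_pow, map_pow, (mem_invariants θ).1 (hp i), huw, mul_pow]
      ring
    have htr : Transcendental L ((RatFunc.X : RatFunc L) ^ n) := fun halg => by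
      rcases Int.natAbs_eq n with e | e <;> rw [e] at halg
      · rw [zpow_natCast] at halg
        exact RatFunc.transcendental_X (halg.of_pow (by omega))
      · rw [zpow_neg, zpow_natCast, IsAlgebraic.inv_iff] at halg
        exact RatFunc.transcendental_X (halg.of_pow (by omega))
    have h2 : p.comp (C u * X) = 0 := by
      refine (transcendental_iff_injective.1 htr) ?_
      rw [map_zero, ← h1, comp, eval₂_eq_sum, Polynomial.sum, map_sum]
      refine Finset.sum_congr rfl fun i _ => ?_
      simp [mul_pow, mul_assoc]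
    rcases comp_eq_zero_iff.1 h2 with h | ⟨-, h⟩
    · exact h
    · have := congrArg (fun q => q.coeff 1) h
      simp at this
      exact absurd this hu
  · rw [eq_sum_div θ hθ x, eval_eq_sum_range, eval_eq_sum_range]
    exact div_mem (sum_mem fun i _ => mul_mem (hwR _ _ (isWeight_coeff θ hθ x i).1) (pow_mem (one_mem R) i))
      (sum_mem fun i _ => mul_mem (hwR _ _ (isWeight_coeff θ hθ x i).2) (pow_mem (one_mem R) i))

end multiplicative

end Groth.Agent.Lib.Slice
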