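import Groth.Agent.Lib.Slice.Action

/-!
Non-trivial actions of `𝔾_a` and `𝔾_m` on varieties split off a line birationally.
-/

set_option autoImplicit false
universe u

open CategoryTheory MonoidalCategory CartesianMonoidalCategory MonObj GrpObj AlgebraicGeometry
open Groth.Agent.Lib.RedPts Groth.Agent.Lib.GaGmKernel
open scoped TensorProduct

attribute [local instance] Points.baseAlgebra Groth.Agent.Lib.Slice.fieldAlgebra

namespace Groth.Agent.Lib.Slice

variable {K : Type u} [Field K]

section field

variable {L : Type u} [Field L] [Algebra K L]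

/-- Constants. -/
noncomputable def cst (K L : Type u) [Field K] [Field L] [Algebra K L] : L →ₐ[K] RatFunc L :=
  IsScalarTower.toAlgHom K L (RatFunc L)

theorem cst_apply (x : L) : cst K L x = RatFunc.C x := rfl

/-- Extension of a map of constants. -/
noncomputable def extTo (σ : Polynomial L →+* Polynomial (RatFunc L)) (hσ : Function.Injective σ)
    (hK : ∀ r : K, σ (algebraMap K (Polynomial L) r) = algebraMap K (Polynomial (RatFunc L)) r) :
    RatFunc L →ₐ[K] RatFunc (RatFunc L) :=
  IsFractionRing.liftAlgHom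
    (g := ({ (algebraMap (Polynomial (RatFunc L)) (RatFunc (RatFunc L))).comp σ with
      commutes' := fun r => by
        change algebraMap _ _ (σ _) = _
        rw [hK, ← IsScalarTower.algebraMap_apply] } : Polynomial L →ₐ[K] RatFunc (RatFunc L)))
    ((RatFunc.algebraMap_injective _).comp hσ)

theorem extTo_algebraMap (σ : Polynomial L →+* Polynomial (RatFunc L)) (hσ : Function.Injective σ)
    (hK : ∀ r : K, σ (algebraMap K (Polynomial L) r) = algebraMap K (Polynomial (RatFunc L)) r) (P : Polynomial L) :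
    extTo σ hσ hK (algebraMap (Polynomial L) (RatFunc L) P) = algebraMap _ _ (σ P) := by
  simp [extTo, IsFractionRing.liftAlgHom_apply]

theorem cross_of_eq (σ τ : Polynomial L →+* Polynomial (RatFunc L)) (hσ : Function.Injective σ)
    (hτ : Function.Injective τ)
    (hKσ : ∀ r : K, σ (algebraMap K (Polynomial L) r) = algebraMap K (Polynomial (RatFunc L)) r)
    (hKτ : ∀ r : K, τ (algebraMap K (Polynomial L) r) = algebraMap K (Polynomial (RatFunc L)) r)
    (z : RatFunc L) (h : extTo σ hσ hKσ z = extTo τ hτ hKτ z) : σ z.num * τ z.denom = τ z.num * σ z.denom := by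
  rw [← RatFunc.num_div_denom z, map_div₀, map_div₀, extTo_algebraMap, extTo_algebraMap, extTo_algebraMap,
    extTo_algebraMap, div_eq_div_iff, ← map_mul, ← map_mul] at h
  · exact RatFunc.algebraMap_injective _ h
  · exact (map_ne_zero_iff _ (RatFunc.algebraMap_injective _)).2 ((map_ne_zero_iff σ hσ).2 z.denom_ne_zero)
  · exact (map_ne_zero_iff _ (RatFunc.algebraMap_injective _)).2 ((map_ne_zero_iff τ hτ).2 z.denom_ne_zero)


theorem mapRingHom_algebraMap (θ : L →ₐ[K] RatFunc L) (r : K) :
    Polynomial.mapRingHom θ.toRingHom (algebraMap K (Polynomial L) r) = algebraMap K (Polynomial (RatFunc L)) r := by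
  simp [Polynomial.algebraMap_apply]

end field

variable {X : Over (Spec (CommRingCat.of K))} [IsIntegral X.left]

section localRing

variable {L : Type u} [Field L] [Algebra K L] (e : L)

/-- The prime of a point of the line. -/
noncomputable def ptIdeal : Ideal (Polynomial L) := RingHom.ker (Polynomial.evalRingHom e)

instance : (ptIdeal e).IsPrime := RingHom.ker_isPrime _

theorem exists_localRing :
    ∃ (emb : Localization.AtPrime (ptIdeal e) →ₐ[K] RatFunc L) (ιR : L →ₐ[K] Localization.AtPrime (ptIdeal e))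
      (ev : Localization.AtPrime (ptIdeal e) →ₐ[K] L),
      (∀ P : Polynomial L, emb (algebraMap _ _ P) = algebraMap _ (RatFunc L) P) ∧
      (∀ P : Polynomial L, ev (algebraMap _ _ P) = P.eval e) ∧ (∀ x, ev (ιR x) = x) ∧ emb.comp ιR = cst K L := by
  have hle : (ptIdeal e).primeCompl ≤ nonZeroDivisors (Polynomial L) :=
    Ideal.primeCompl_le_nonZeroDivisors _
  refine ⟨IsLocalization.liftAlgHom (M := (ptIdeal e).primeCompl)
      (f := IsScalarTower.toAlgHom K (Polynomial L) (RatFunc L)) ?_,
    (IsScalarTower.toAlgHom K (Polynomial L) _).comp ((Polynomial.CAlgHom : L →ₐ[L] _).restrictScalars K),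
    IsLocalization.liftAlgHom (M := (ptIdeal e).primeCompl)
      (f := (Polynomial.aeval e : Polynomial L →ₐ[L] L).restrictScalars K) ?_, ?_, ?_, ?_, ?_⟩
  · rintro ⟨y, hy⟩
    exact Ne.isUnit ((map_ne_zero_iff _ (RatFunc.algebraMap_injective L)).2 (nonZeroDivisors.ne_zero (hle hy)))
  · rintro ⟨y, hy⟩
    refine Ne.isUnit fun h => hy ?_
    change y.eval e = 0
    simpa [Polynomial.coe_aeval_eq_eval] using h
  · intro P; simp
  · intro P; simp [Polynomial.coe_aeval_eq_eval]
  · intro x; simp
  · ext x
    simp [cst_apply, RatFunc.algebraMap_C]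

end localRing

section Ga

/-- The additive case. -/
theorem isRationalLine_of_Ga [LocallyOfFiniteType X.hom] [IsSeparated X.hom]
    (a : AlgGrp.Action (Red.Ga (Spec (CommRingCat.of K))) X) (ha : a.act ≠ snd _ X) :
    IsRationalLine K X.left.functionField := by
  let E := fun W => gaEq (K := K) W
  have hE : ∀ {W W' : Over (Spec (CommRingCat.of K))} (h : W' ⟶ W) (g : W ⟶ Red.Ga (Spec (CommRingCat.of K))),
      E W' (h ≫ g) = (pull h).comp (E W g) := fun h g => gaEq_comp h g
  let L := X.left.functionField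
  let p : Polynomial K →ₐ[K] (Localization.AtPrime (ptIdeal (0 : L))) := Polynomial.aeval (algebraMap (Polynomial L) (Localization.AtPrime (ptIdeal (0 : L))) Polynomial.X)
  obtain ⟨emb, ιR, ev, hemb, hev', hev, hcomp⟩ := exists_localRing (K := K) (0 : L)
  have hgpt : ∀ (D : Type u) [CommRing D] [Algebra K D] (q r : Polynomial K →ₐ[K] D) (s : Polynomial K →ₐ[K] D),
      q Polynomial.X + r Polynomial.X = s Polynomial.X → gpt E D q * gpt E D r = gpt E D s := by
    intro D _ _ q r s h
    apply (E _).injective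
    refine Polynomial.algHom_ext ?_
    change Polynomial.aeval (Red.gaFn _) _ = Polynomial.aeval (Red.gaFn _) _
    simp only [Polynomial.aeval_X, gpt, E, gaEq, Equiv.coe_fn_symm_mk, Ga.gaFn_mul, Ga.gaFn_gaPt, AlgHom.comp_apply]
    rw [← map_add, h]
  have hp : gpt E _ (ev.comp p) = 1 := by
    apply (E _).injective
    refine Polynomial.algHom_ext ?_
    change Polynomial.aeval (Red.gaFn _) _ = Polynomial.aeval (Red.gaFn _) _
    simp [gpt, E, gaEq, p, hev', Ga.gaFn_one]
  obtain ⟨θ, hθ⟩ := exists_theta E hE a emb ιR ev hev p hp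
  rw [hcomp] at hθ
  let pT : Polynomial K →ₐ[K] RatFunc L := emb.comp p
  have hpT : pT Polynomial.X = RatFunc.X := by simp [pT, p, hemb, RatFunc.algebraMap_X]
  let Θ := extTo (Polynomial.mapRingHom θ.toRingHom) (Polynomial.map_injective _ θ.toRingHom.injective)
    (mapRingHom_algebraMap θ)
  let σ : Polynomial L →+* Polynomial (RatFunc L) :=
    (Polynomial.taylorAlgHom (RatFunc.X : RatFunc L)).toRingHom.comp (Polynomial.mapRingHom RatFunc.C)
  have hσ : Function.Injective σ :=
    (Polynomial.taylor_injective _).comp (Polynomial.map_injective _ (RingHom.injective (RatFunc.C : L →+* RatFunc L)))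
  have hKσ : ∀ r : K, σ (algebraMap K (Polynomial L) r) = algebraMap K (Polynomial (RatFunc L)) r := fun r => by
    simp [σ, Polynomial.algebraMap_apply]
    rfl
  let Ψ := extTo σ hσ hKσ
  let c' := cst K (RatFunc L)
  have hΨX : Ψ RatFunc.X = RatFunc.X + RatFunc.C (RatFunc.X : RatFunc L) := by
    rw [← RatFunc.algebraMap_X, extTo_algebraMap]
    simp [σ, RatFunc.algebraMap_X]
  have hΘX : Θ RatFunc.X = RatFunc.X := by
    rw [← RatFunc.algebraMap_X, extTo_algebraMap]
    simp [RatFunc.algebraMap_X]
  have hC : ∀ x, Θ (cst K L x) = c' (θ x) ∧ Ψ (cst K L x) = c' (cst K L x) := fun x => by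
    simp only [cst_apply, c', Θ, Ψ]
    rw [← RatFunc.algebraMap_C x, extTo_algebraMap, extTo_algebraMap]
    simp [σ]
  have hass := theta_assoc E hE a (cst K L) pT θ hθ c' Ψ Θ (fun x => (hC x).1) (fun x => (hC x).2)
    (hgpt _ _ _ _ (by
      simp only [AlgHom.comp_apply, hpT, hΘX, hΨX, c', cst_apply]))
  obtain ⟨gen, hgen⟩ := exists_generators X
  refine isRationalLine_additive θ (fun x => ?_) gen hgen ?_
  · exact cross_of_eq _ _ _ _ _ _ (θ x) (hass x)
  · by_contra hcon
    push Not at hcon
    refine ha (act_eq_snd E hE a (cst K L) pT ?_ ?_)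
    · have key : (Algebra.TensorProduct.lift pT (cst K L) (fun _ _ => Commute.all _ _)) =
          ((IsScalarTower.toAlgHom K (Polynomial L) (RatFunc L)).comp (polyEquivTensor K L).symm.toAlgHom).comp
            (Algebra.TensorProduct.comm K (Polynomial K) L).toAlgHom := by
        refine Algebra.TensorProduct.ext' fun q l => ?_
        simp only [Algebra.TensorProduct.lift_tmul, AlgHom.comp_apply, AlgEquiv.coe_toAlgHom, AlgHom.coe_coe,
          Algebra.TensorProduct.comm_tmul, polyEquivTensor_symm_apply_tmul_eq_smul, IsScalarTower.coe_toAlgHom',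
          Algebra.smul_def, map_mul, Polynomial.algebraMap_apply, Algebra.algebraMap_self, RingHom.id_apply,
          cst_apply, RatFunc.algebraMap_C]
        rw [_root_.mul_comm]
        congr 1
        have : pT = (IsScalarTower.toAlgHom K (Polynomial L) (RatFunc L)).comp (Polynomial.mapAlgHom (Algebra.ofId K L)) :=
          Polynomial.algHom_ext (by simp [hpT, RatFunc.algebraMap_X])
        rw [this]
        rfl
      rw [key]
      exact ((RatFunc.algebraMap_injective L).comp (AlgEquiv.injective (polyEquivTensor K L).symm)).comp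
        (AlgEquiv.injective (Algebra.TensorProduct.comm K (Polynomial K) L))
    · have h1 : θ = cst K L := AlgHom.ext hcon
      rw [← hθ, h1]

end Ga

section Gm

theorem tmul_mul_pow_mem {B : Type u} [CommRing B] [Algebra K B] (z : MonoidAlgebra K (Multiplicative ℤ) ⊗[K] B) :
    ∃ (m : ℕ) (w : Polynomial K ⊗[K] B),
      Algebra.TensorProduct.map (Polynomial.aeval (tvar K)) (AlgHom.id K B) w = z * (tvar K ^ m) ⊗ₜ[K] 1 := by
  induction z using TensorProduct.induction_on with
  | zero => exact ⟨0, 0, by simp⟩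
  | tmul q b =>
    obtain ⟨m, g, hg⟩ := exists_mul_pow_mem q
    exact ⟨m, g ⊗ₜ[K] b, by simp [Algebra.TensorProduct.tmul_mul_tmul, hg]⟩
  | add x y hx hy =>
    obtain ⟨m, w, hw⟩ := hx
    obtain ⟨m', w', hw'⟩ := hy
    refine ⟨m + m', w * ((Polynomial.X ^ m') ⊗ₜ[K] 1) + w' * ((Polynomial.X ^ m) ⊗ₜ[K] 1), ?_⟩
    have e : (tvar K ^ (m + m')) ⊗ₜ[K] (1 : B) = (tvar K ^ m) ⊗ₜ[K] 1 * (tvar K ^ m') ⊗ₜ[K] 1 := by
      rw [Algebra.TensorProduct.tmul_mul_tmul, _root_.mul_one, pow_add]
    rw [map_add, map_mul, map_mul, hw, hw', e]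
    simp only [Algebra.TensorProduct.map_tmul, map_pow, Polynomial.aeval_X, AlgHom.id_apply]
    ring

/-- The multiplicative case. -/
theorem isRationalLine_of_Gm [LocallyOfFiniteType X.hom] [IsSeparated X.hom]
    (a : AlgGrp.Action (Red.Gm (Spec (CommRingCat.of K))) X) (ha : a.act ≠ snd _ X) :
    IsRationalLine K X.left.functionField := by
  let E := fun W => gmEq (K := K) W
  have hE : ∀ {W W' : Over (Spec (CommRingCat.of K))} (h : W' ⟶ W) (g : W ⟶ Red.Gm (Spec (CommRingCat.of K))),
      E W' (h ≫ g) = (pull h).comp (E W g) := fun h g => gmEq_comp h g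
  let L := X.left.functionField
  have hXu : IsUnit (algebraMap (Polynomial L) (Localization.AtPrime (ptIdeal (1 : L))) Polynomial.X) :=
    IsLocalization.map_units (Localization.AtPrime (ptIdeal (1 : L))) (⟨Polynomial.X, by
      change ¬ (Polynomial.X : Polynomial L).eval 1 = 0
      simp⟩ : (ptIdeal (1 : L)).primeCompl)
  let p : MonoidAlgebra K (Multiplicative ℤ) →ₐ[K] (Localization.AtPrime (ptIdeal (1 : L))) := unitHom hXu.unit
  obtain ⟨emb, ιR, ev, hemb, hev', hev, hcomp⟩ := exists_localRing (K := K) (1 : L)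
  have hgpt : ∀ (D : Type u) [CommRing D] [Algebra K D] (q r s : MonoidAlgebra K (Multiplicative ℤ) →ₐ[K] D),
      q (tvar K) * r (tvar K) = s (tvar K) → gpt E D q * gpt E D r = gpt E D s := by
    intro D _ _ q r s h
    apply (E _).injective
    refine tvar_hom_ext ?_
    have hv : ∀ t, Red.gmFn (gpt E D t) = toΓ (K := K) (t (tvar K)) := fun t => by
      rw [← gmEq_tvar]
      simp [gpt, E]
    simp only [E, gmEq_tvar, Gm.gmFn_mul, hv]
    rw [← map_mul, h]
  have hp : gpt E _ (ev.comp p) = 1 := by
    apply (E _).injective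
    refine tvar_hom_ext ?_
    have hv : ∀ t, Red.gmFn (gpt E (L : Type u) t) = toΓ (K := K) (t (tvar K)) := fun t => by
      rw [← gmEq_tvar]
      simp [gpt, E]
    simp only [E, gmEq_tvar, Gm.gmFn_one, hv]
    simp [p, unitHom_tvar, hev']
  obtain ⟨θ, hθ⟩ := exists_theta E hE a emb ιR ev hev p hp
  rw [hcomp] at hθ
  let pT : MonoidAlgebra K (Multiplicative ℤ) →ₐ[K] RatFunc L := emb.comp p
  have hpT : pT (tvar K) = RatFunc.X := by simp [pT, p, unitHom_tvar, hemb, RatFunc.algebraMap_X]
  let Θ := extTo (Polynomial.mapRingHom θ.toRingHom) (Polynomial.map_injective _ θ.toRingHom.injective)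
    (mapRingHom_algebraMap θ)
  let σ : Polynomial L →+* Polynomial (RatFunc L) := mulShiftHom
  have hσ : Function.Injective σ := (injective_iff_map_eq_zero _).2 fun P hP => Polynomial.ext fun i => by
    have h := congrArg (fun q => q.coeff i) hP
    simp [σ, coeff_mulShiftHom, RatFunc.X_ne_zero] at h
    simpa using h
  have hKσ : ∀ r : K, σ (algebraMap K (Polynomial L) r) = algebraMap K (Polynomial (RatFunc L)) r := fun r => by
    simp [σ, mulShiftHom, Polynomial.algebraMap_apply]
    rfl
  let Ψ := extTo σ hσ hKσ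
  let c' := cst K (RatFunc L)
  have hΨX : Ψ RatFunc.X = RatFunc.X * RatFunc.C (RatFunc.X : RatFunc L) := by
    rw [← RatFunc.algebraMap_X, extTo_algebraMap]
    simp [σ, mulShiftHom, RatFunc.algebraMap_X, RatFunc.algebraMap_C]
    ring
  have hΘX : Θ RatFunc.X = RatFunc.X := by
    rw [← RatFunc.algebraMap_X, extTo_algebraMap]
    simp [RatFunc.algebraMap_X]
  have hC : ∀ x, Θ (cst K L x) = c' (θ x) ∧ Ψ (cst K L x) = c' (cst K L x) := fun x => by
    simp only [cst_apply, c', Θ, Ψ]
    rw [← RatFunc.algebraMap_C x, extTo_algebraMap, extTo_algebraMap]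
    simp [σ, mulShiftHom]
  have hass := theta_assoc E hE a (cst K L) pT θ hθ c' Ψ Θ (fun x => (hC x).1) (fun x => (hC x).2)
    (hgpt _ _ _ _ (by
      simp only [AlgHom.comp_apply, hpT, hΘX, hΨX, c', cst_apply]))
  obtain ⟨gen, hgen⟩ := exists_generators X
  refine isRationalLine_multiplicative θ (fun x => ?_) gen hgen ?_
  · exact cross_of_eq _ _ _ _ _ _ (θ x) (hass x)
  · by_contra hcon
    push Not at hcon
    refine ha (act_eq_snd E hE a (cst K L) pT ?_ ?_)
    · let T := Algebra.TensorProduct.lift pT (cst K L) (fun _ _ => Commute.all _ _)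
      let Φ := ((IsScalarTower.toAlgHom K (Polynomial L) (RatFunc L)).comp (polyEquivTensor K L).symm.toAlgHom).comp
            (Algebra.TensorProduct.comm K (Polynomial K) L).toAlgHom
      have hΦ : Function.Injective Φ :=
        ((RatFunc.algebraMap_injective L).comp (AlgEquiv.injective (polyEquivTensor K L).symm)).comp
          (AlgEquiv.injective (Algebra.TensorProduct.comm K (Polynomial K) L))
      have key : T.comp (Algebra.TensorProduct.map (Polynomial.aeval (tvar K)) (AlgHom.id K L)) = Φ := by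
        refine Algebra.TensorProduct.ext' fun q l => ?_
        simp only [T, Φ, Algebra.TensorProduct.lift_tmul, Algebra.TensorProduct.map_tmul, AlgHom.id_apply,
          AlgHom.comp_apply, AlgEquiv.coe_toAlgHom, AlgHom.coe_coe,
          Algebra.TensorProduct.comm_tmul, polyEquivTensor_symm_apply_tmul_eq_smul, IsScalarTower.coe_toAlgHom',
          Algebra.smul_def, map_mul, Polynomial.algebraMap_apply, Algebra.algebraMap_self, RingHom.id_apply,
          cst_apply, RatFunc.algebraMap_C]
        rw [_root_.mul_comm]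
        congr 1
        have : pT.comp (Polynomial.aeval (tvar K)) =
            (IsScalarTower.toAlgHom K (Polynomial L) (RatFunc L)).comp (Polynomial.mapAlgHom (Algebra.ofId K L)) :=
          Polynomial.algHom_ext (by simp [hpT, RatFunc.algebraMap_X])
        exact DFunLike.congr_fun this q
      refine (injective_iff_map_eq_zero T).2 fun z hz => ?_
      obtain ⟨m, w, hw⟩ := tmul_mul_pow_mem z
      have h1 : Φ w = 0 := by rw [← key, AlgHom.comp_apply, hw, map_mul, hz, zero_mul]
      rw [(injective_iff_map_eq_zero Φ).1 hΦ w h1, map_zero, eq_comm] at hw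
      exact (((isUnit_tvar.pow m).map (Algebra.TensorProduct.includeLeft :
        MonoidAlgebra K (Multiplicative ℤ) →ₐ[K] _ ⊗[K] L)).mul_left_eq_zero).1 hw
    · have h1 : θ = cst K L := AlgHom.ext hcon
      rw [← hθ, h1]

end Gm

/-- Transport of an action along an isomorphism of groups. -/
theorem exists_transport {G G₀ : Over (Spec (CommRingCat.of K))} [GrpObj G] [GrpObj G₀] (e : G ≅ G₀)
    [IsMonHom e.hom] (a : AlgGrp.Action G X) (ha : a.act ≠ snd G X) :
    ∃ a₀ : AlgGrp.Action G₀ X, a₀.act ≠ snd G₀ X := by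
  have hinv : ∀ (T : Over (Spec (CommRingCat.of K))) (g : T ⟶ G₀) (x : T ⟶ X),
      lift g x ≫ (e.inv ▷ X) ≫ a.act = lift (g ≫ e.inv) x ≫ a.act := fun T g x => by
    rw [lift_whiskerRight_assoc]
  refine ⟨GrpSch.actionMk ((e.inv ▷ X) ≫ a.act) (fun T x => ?_) (fun T g h x => ?_), fun hcon => ha ?_⟩
  · rw [hinv, MonObj.one_comp, GrpSch.act_one]
  · rw [hinv, hinv, hinv, MonObj.mul_comp, GrpSch.act_mul]
  · have h1 : (e.inv ▷ X) ≫ a.act = snd G₀ X := hcon
    have h2 := congrArg ((e.hom ▷ X) ≫ ·) h1
    simpa [← MonoidalCategory.comp_whiskerRight_assoc, whiskerRight_snd] using h2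

end Groth.Agent.Lib.Slice
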