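import Groth.Agent.Lib.Slice.Algebra
import Mathlib.AlgebraicGeometry.AffineSpace
import Mathlib.AlgebraicGeometry.FunctionField

/-!
A rational line over a subfield gives a birational product decomposition.
-/

set_option autoImplicit false
universe u
open CategoryTheory AlgebraicGeometry

namespace Groth.Agent.Lib.Slice

variable {K L : Type u} [Field K] [Field L] [Algebra K L]

/-- The localised map to the field. -/
noncomputable def awayHom {Q : Type u} [CommRing Q] [Algebra K Q] (φ : Q →ₐ[K] L) (g : Q) (hg : φ g ≠ 0) :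
    Localization.Away g →ₐ[K] L :=
  IsLocalization.liftAlgHom (M := Submonoid.powers g) (f := φ) (by
    rintro ⟨y, k, rfl⟩
    simp [hg])

theorem awayHom_algebraMap {Q : Type u} [CommRing Q] [Algebra K Q] (φ : Q →ₐ[K] L) (g : Q) (hg : φ g ≠ 0) (a : Q) :
    awayHom φ g hg (algebraMap Q _ a) = φ a := by
  simp [awayHom]

theorem mem_range_awayHom_of_mem {Q : Type u} [CommRing Q] [Algebra K Q] (φ : Q →ₐ[K] L) (g : Q) (hg : φ g ≠ 0)
    {x : L} (hx : x ∈ φ.range) : x ∈ (awayHom φ g hg).range := by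
  obtain ⟨a, rfl⟩ := hx
  exact ⟨_, awayHom_algebraMap φ g hg a⟩

theorem inv_mem_range_awayHom {Q : Type u} [CommRing Q] [Algebra K Q] (φ : Q →ₐ[K] L) (g : Q) (hg : φ g ≠ 0) :
    (φ g)⁻¹ ∈ (awayHom φ g hg).range := by
  refine ⟨IsLocalization.Away.invSelf g, eq_inv_of_mul_eq_one_left ?_⟩
  change awayHom φ g hg _ * φ g = 1
  rw [← awayHom_algebraMap φ g hg g, ← map_mul, mul_comm, IsLocalization.Away.mul_invSelf, map_one]

theorem range_awayHom_le {Q : Type u} [CommRing Q] [Algebra K Q] (φ : Q →ₐ[K] L) (g : Q) (hg : φ g ≠ 0)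
    (T : Subalgebra K L) (hT : φ.range ≤ T) (hinv : (φ g)⁻¹ ∈ T) : (awayHom φ g hg).range ≤ T := by
  rintro _ ⟨z, rfl⟩
  obtain ⟨k, a, ha⟩ := IsLocalization.Away.surj g z
  change awayHom φ g hg z ∈ T
  have h := congrArg (awayHom φ g hg) ha
  rw [map_mul, map_pow, awayHom_algebraMap, awayHom_algebraMap] at h
  rw [(eq_div_iff (pow_ne_zero _ hg)).2 h, div_eq_mul_inv, ← inv_pow]
  exact mul_mem (hT ⟨a, rfl⟩) (pow_mem hinv k)

theorem injective_awayHom {Q : Type u} [CommRing Q] [Algebra K Q] (φ : Q →ₐ[K] L) (g : Q) (hg : φ g ≠ 0)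
    (hφ : Function.Injective φ) : Function.Injective (awayHom φ g hg) := by
  refine (IsLocalization.lift_injective_iff _).2 fun x y => ?_
  exact ⟨fun h => congrArg φ (IsLocalization.injective (Localization.Away g)
    (powers_le_nonZeroDivisors_of_map hφ hg) h), fun h => congrArg _ (hφ h)⟩
where
  powers_le_nonZeroDivisors_of_map {Q : Type u} [CommRing Q] [Algebra K Q] {φ : Q →ₐ[K] L} {g : Q}
      (hφ : Function.Injective φ) (hg : φ g ≠ 0) : Submonoid.powers g ≤ nonZeroDivisors Q := by
    rintro _ ⟨k, rfl⟩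
    refine mem_nonZeroDivisors_iff_right.2 fun z hz => hφ ?_
    have := congrArg φ hz
    rw [map_mul, map_zero, map_pow] at this
    rw [map_zero]
    exact (mul_eq_zero.1 this).resolve_right (pow_ne_zero _ hg)

theorem exists_le_range_awayHom {R Q : Type u} [CommRing R] [Algebra K R] [CommRing Q] [Algebra K Q]
    [Algebra.FiniteType K R] (ρ : R →ₐ[K] L) (φ : Q →ₐ[K] L)
    (hφ : ∀ x : L, ∃ a b, φ b ≠ 0 ∧ x = φ a / φ b) :
    ∃ (g : Q) (hg : φ g ≠ 0), ρ.range ≤ (awayHom φ g hg).range := by
  classical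
  obtain ⟨t, ht⟩ := Algebra.FiniteType.out (R := K) (A := R)
  choose a b hb hab using fun r : R => hφ (ρ r)
  have hg : φ (∏ r ∈ t, b r) ≠ 0 := by
    rw [map_prod]; exact Finset.prod_ne_zero_iff.2 fun r _ => hb r
  refine ⟨∏ r ∈ t, b r, hg, ?_⟩
  rw [← Algebra.map_top, ← ht, AlgHom.map_adjoin, Algebra.adjoin_le_iff]
  rintro _ ⟨r, hr, rfl⟩
  change ρ r ∈ _
  have h1 := mul_mem (mem_range_awayHom_of_mem φ _ hg ⟨a r * ∏ x ∈ t.erase r, b x, rfl⟩)
    (inv_mem_range_awayHom φ _ hg)
  rw [hab r]
  have hne : φ (∏ x ∈ t.erase r, b x) ≠ 0 := by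
    rw [map_prod]; exact Finset.prod_ne_zero_iff.2 fun x _ => hb x
  have key : φ (a r) / φ (b r) = φ (a r * ∏ x ∈ t.erase r, b x) * (φ (∏ x ∈ t, b x))⁻¹ := by
    rw [← Finset.mul_prod_erase t b hr, map_mul, map_mul, ← div_eq_mul_inv, mul_div_mul_right _ _ hne]
  rw [key]
  exact h1

/-- Two models of a field have a common principal open. -/
theorem exists_away_equiv {R Q : Type u} [CommRing R] [Algebra K R] [CommRing Q] [Algebra K Q]
    [Algebra.FiniteType K R] [Algebra.FiniteType K Q] (ρ : R →ₐ[K] L) (φ : Q →ₐ[K] L)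
    (hρi : Function.Injective ρ) (hφi : Function.Injective φ)
    (hρ : ∀ x : L, ∃ a b, ρ b ≠ 0 ∧ x = ρ a / ρ b) (hφ : ∀ x : L, ∃ a b, φ b ≠ 0 ∧ x = φ a / φ b) :
    ∃ (f : R) (g : Q), ρ f ≠ 0 ∧ Nonempty (Localization.Away f ≃ₐ[K] Localization.Away g) := by
  obtain ⟨h, hh, hQR⟩ := exists_le_range_awayHom φ ρ hρ
  have : Algebra.FiniteType K (Localization.Away h) :=
    Algebra.FiniteType.trans (S := R) inferInstance inferInstance
  obtain ⟨g, hg, hRQ⟩ := exists_le_range_awayHom (awayHom ρ h hh) φ hφ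
  obtain ⟨z, hz⟩ := hQR ⟨g, rfl⟩
  obtain ⟨k, r, hr⟩ := IsLocalization.Away.surj h z
  have hr' : φ g * ρ h ^ k = ρ r := by
    have := congrArg (awayHom ρ h hh) hr
    rwa [map_mul, map_pow, awayHom_algebraMap, awayHom_algebraMap, show awayHom ρ h hh z = φ g from hz] at this
  have hf : ρ (h * r) ≠ 0 := by
    rw [map_mul, ← hr']
    exact mul_ne_zero hh (mul_ne_zero hg (pow_ne_zero _ hh))
  have hA : ∀ a, ρ a ∈ (awayHom ρ (h * r) hf).range := fun a => mem_range_awayHom_of_mem _ _ _ ⟨a, rfl⟩
  have hinvh : (ρ h)⁻¹ ∈ (awayHom ρ (h * r) hf).range := by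
    convert mul_mem (hA r) (inv_mem_range_awayHom ρ (h * r) hf) using 1
    rw [map_mul]
    have := (map_mul ρ h r) ▸ hf
    rw [mul_inv, mul_left_comm, mul_inv_cancel₀ (right_ne_zero_of_mul this), mul_one]
  have heq : (awayHom ρ (h * r) hf).range = (awayHom φ g hg).range := by
    refine le_antisymm (range_awayHom_le _ _ _ _ (fun x hx => hRQ (mem_range_awayHom_of_mem _ _ _ hx)) ?_)
      (range_awayHom_le _ _ _ _ (fun x hx => range_awayHom_le ρ h hh _ (by rintro _ ⟨a, rfl⟩; exact hA a) hinvh (hQR hx)) ?_)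
    · have hh' := hRQ (inv_mem_range_awayHom ρ h hh)
      convert mul_mem (mul_mem hh' (inv_mem_range_awayHom φ g hg)) (pow_mem hh' k) using 1
      rw [map_mul, ← hr']
      field_simp
      rw [one_div, inv_pow, mul_inv_cancel₀ (pow_ne_zero _ hh)]
    · convert mul_mem (pow_mem (hA h) (k + 1)) (inv_mem_range_awayHom ρ (h * r) hf) using 1
      rw [map_mul, ← hr']
      field_simp
      ring
  exact ⟨h * r, g, hf, ⟨(AlgEquiv.ofInjective _ (injective_awayHom ρ _ hf hρi)).trans
    ((Subalgebra.equivOfEq _ _ heq).trans (AlgEquiv.ofInjective _ (injective_awayHom φ g hg hφi)).symm)⟩⟩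

/-- The algebra structure of the function field. -/
@[reducible] noncomputable def fieldAlgebra (X : Over (Spec (CommRingCat.of K))) [IrreducibleSpace X.left] :
    Algebra K X.left.functionField :=
  (Spec.preimage (X.left.fromSpecStalk (genericPoint X.left) ≫ X.hom)).hom.toAlgebra

theorem specMap_algebraMap (X : Over (Spec (CommRingCat.of K))) [IrreducibleSpace X.left] :
    letI := fieldAlgebra X
    Spec.map (CommRingCat.ofHom (algebraMap K X.left.functionField)) =
      X.left.fromSpecStalk (genericPoint X.left) ≫ X.hom :=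
  Spec.map_preimage _

variable (X : Over (Spec (CommRingCat.of K))) [IsIntegral X.left] [LocallyOfFiniteType X.hom]

/-- An affine model of the function field. -/
theorem exists_model :
    letI := fieldAlgebra X
    ∃ (R : Type u) (_ : CommRing R) (_ : Algebra K R) (ρ : R →ₐ[K] X.left.functionField)
      (j : Spec (CommRingCat.of R) ⟶ X.left),
      Algebra.FiniteType K R ∧ IsOpenImmersion j ∧ j ≫ X.hom = Spec.map (CommRingCat.ofHom (algebraMap K R)) ∧
      Function.Injective ρ ∧ ∀ x, ∃ a b, ρ b ≠ 0 ∧ x = ρ a / ρ b := by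
  let _ := fieldAlgebra X
  obtain ⟨U, hU, hη, -⟩ := exists_isAffineOpen_mem_and_subset (x := genericPoint X.left) (U := ⊤) trivial
  have : Nonempty U := ⟨⟨_, hη⟩⟩
  let R := Γ(X.left, U)
  let _ : Algebra K R := (Spec.preimage (hU.fromSpec ≫ X.hom)).hom.toAlgebra
  have hj : hU.fromSpec ≫ X.hom = Spec.map (CommRingCat.ofHom (algebraMap K R)) := (Spec.map_preimage _).symm
  have : IsFractionRing R X.left.functionField := functionField_isFractionRing_of_isAffineOpen X.left U hU
  have hcomp : (algebraMap R X.left.functionField).comp (algebraMap K R) = algebraMap K X.left.functionField := by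
    have h1 : CommRingCat.ofHom (algebraMap K R) ≫ X.left.presheaf.germ U (genericPoint X.left) hη =
        CommRingCat.ofHom (algebraMap K X.left.functionField) := Spec.map_injective (by
      rw [Spec.map_comp, ← hj, specMap_algebraMap X, ← Category.assoc]
      congr 1
      exact hU.fromSpecStalk_eq_fromSpecStalk hη)
    exact congrArg CommRingCat.Hom.hom h1
  let ρ : R →ₐ[K] X.left.functionField :=
    { algebraMap R X.left.functionField with commutes' := fun r => DFunLike.congr_fun hcomp r }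
  have hft : Algebra.FiniteType K R := by
    have h : LocallyOfFiniteType (Spec.map (CommRingCat.ofHom (algebraMap K R))) := hj ▸ inferInstance
    rw [HasRingHomProperty.Spec_iff (P := @LocallyOfFiniteType)] at h
    exact RingHom.finiteType_algebraMap.mp h
  refine ⟨R, inferInstance, inferInstance, ρ, hU.fromSpec, hft, inferInstance, hj,
    IsFractionRing.injective R X.left.functionField, fun x => ?_⟩
  obtain ⟨a, b, hb, rfl⟩ := IsFractionRing.div_surjective (A := R) x
  exact ⟨a, b, IsFractionRing.to_map_ne_zero_of_mem_nonZeroDivisors hb, rfl⟩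

/-- Generators of the function field. -/
theorem exists_generators :
    letI := fieldAlgebra X
    ∃ gen : Finset X.left.functionField, IntermediateField.adjoin K (gen : Set X.left.functionField) = ⊤ := by
  classical
  let _ := fieldAlgebra X
  obtain ⟨R, _, _, ρ, j, hft, -, -, -, hρ⟩ := exists_model X
  obtain ⟨t, ht⟩ := Algebra.FiniteType.out (R := K) (A := R)
  refine ⟨t.image ρ, eq_top_iff.2 fun x _ => ?_⟩
  have hmem : ∀ a, ρ a ∈ IntermediateField.adjoin K ((t.image ρ : Finset _) : Set X.left.functionField) := fun a => by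
    have : ρ a ∈ Algebra.adjoin K (ρ '' (t : Set R)) := by
      rw [← AlgHom.map_adjoin, ht]; exact ⟨a, trivial, rfl⟩
    rw [Finset.coe_image]
    exact IntermediateField.algebra_adjoin_le_adjoin _ _ this
  obtain ⟨a, b, -, rfl⟩ := hρ x
  exact div_mem (hmem a) (hmem b)

/-- The conclusion of birational splitting. -/
theorem exists_birational_line
    (h : letI := fieldAlgebra X; IsRationalLine K X.left.functionField) :
    ∃ (Y : Over (Spec (CommRingCat.of K))) (_ : IsIntegral Y.left) (_ : LocallyOfFiniteType Y.hom)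
      (U : X.left.Opens) (V : (𝔸(ULift.{u} (Fin 1); Y.left)).Opens), (U : Set X.left).Nonempty ∧
      Nonempty (Over.mk (U.ι ≫ X.hom) ≅
        Over.mk (V.ι ≫ (𝔸(ULift.{u} (Fin 1); Y.left) ↘ Y.left) ≫ Y.hom)) := by
  classical
  let _ := fieldAlgebra X
  obtain ⟨s, t, htr, htop⟩ := h
  obtain ⟨R, _, _, ρ, j, hft, hj, hjX, hρi, hρ⟩ := exists_model X
  let B := Algebra.adjoin K (s : Set X.left.functionField)
  have : Algebra.FiniteType K B := (Subalgebra.fg_iff_finiteType B).1 ⟨s, rfl⟩
  let Q := MvPolynomial (ULift.{u} (Fin 1)) B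
  let φ : Q →ₐ[K] X.left.functionField := (MvPolynomial.aeval fun _ => t).restrictScalars K
  have htr' : Transcendental B t := by
    rintro ⟨p, hp0, hp⟩
    refine htr ⟨p.map (Subalgebra.inclusion (IntermediateField.algebra_adjoin_le_adjoin K _)).toRingHom, ?_, ?_⟩
    · exact (Polynomial.map_ne_zero_iff (Subalgebra.inclusion_injective _)).2 hp0
    · rw [Polynomial.aeval_def, Polynomial.eval₂_map]
      exact hp
  have hφi : Function.Injective φ :=
    (algebraicIndependent_unique_type_iff (x := fun _ : ULift.{u} (Fin 1) => t)).2 htr'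
  have hφ : ∀ x, ∃ a b, φ b ≠ 0 ∧ x = φ a / φ b := by
    have hrange : Algebra.adjoin K (insert t (s : Set X.left.functionField)) ≤ φ.range := by
      rw [Algebra.adjoin_le_iff]
      rintro z (rfl | hz)
      · exact ⟨MvPolynomial.X default, MvPolynomial.aeval_X _ _⟩
      · exact ⟨MvPolynomial.C ⟨z, Algebra.subset_adjoin hz⟩, MvPolynomial.aeval_C _ _⟩
    intro x
    obtain ⟨a, ha, b, hb, hx⟩ := IntermediateField.mem_adjoin_iff_div.1 (htop ▸ IntermediateField.mem_top :
      x ∈ IntermediateField.adjoin K (insert t (s : Set X.left.functionField)))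
    obtain ⟨a', ha'⟩ := hrange ha
    obtain ⟨b', hb'⟩ := hrange hb
    by_cases hb0 : b = 0
    · exact ⟨0, 1, by simp, by simp [hx, hb0]⟩
    · exact ⟨a', b', fun e => hb0 (hb'.symm.trans e), by rw [show φ a' = a from ha', show φ b' = b from hb', hx]⟩
  obtain ⟨f, g, hf, ⟨ε⟩⟩ := exists_away_equiv ρ φ hρi hφi hρ hφ
  let Y : Over (Spec (CommRingCat.of K)) := Over.mk (Spec.map (CommRingCat.ofHom (algebraMap K B)))
  have hYi : IsIntegral Y.left := inferInstanceAs (IsIntegral (Spec (CommRingCat.of B)))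
  have hYf : LocallyOfFiniteType Y.hom := by
    change LocallyOfFiniteType (Spec.map (CommRingCat.ofHom (algebraMap K B)))
    rw [HasRingHomProperty.Spec_iff (P := @LocallyOfFiniteType)]
    exact RingHom.finiteType_algebraMap.mpr inferInstance
  let iU := Spec.map (CommRingCat.ofHom (algebraMap R (Localization.Away f))) ≫ j
  let p := AffineSpace.SpecIso (ULift.{u} (Fin 1)) (CommRingCat.of B)
  let iV : Spec (CommRingCat.of (Localization.Away g)) ⟶ 𝔸(ULift.{u} (Fin 1); Y.left) :=
    Spec.map (CommRingCat.ofHom (algebraMap Q (Localization.Away g))) ≫ p.inv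
  have : IsOpenImmersion (Spec.map (CommRingCat.ofHom (algebraMap R (Localization.Away f)))) :=
    IsOpenImmersion.of_isLocalization f
  have : IsOpenImmersion (Spec.map (CommRingCat.ofHom (algebraMap Q (Localization.Away g)))) :=
    IsOpenImmersion.of_isLocalization g
  have : IsOpenImmersion iU := inferInstance
  have : IsOpenImmersion iV := inferInstance
  refine ⟨Y, hYi, hYf, iU.opensRange, iV.opensRange, ?_, ⟨?_⟩⟩
  · have : Nontrivial (Localization.Away f) := (awayHom ρ f hf).toRingHom.domain_nontrivial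
    obtain ⟨q⟩ := (inferInstance : Nonempty (PrimeSpectrum (Localization.Away f)))
    exact ⟨iU.base q, ⟨q, rfl⟩⟩
  let eε : Spec (CommRingCat.of (Localization.Away f)) ≅ Spec (CommRingCat.of (Localization.Away g)) :=
    Scheme.Spec.mapIso ε.toRingEquiv.toCommRingCatIso.op.symm
  refine Over.isoMk (iU.isoOpensRange.symm ≪≫ eε ≪≫ iV.isoOpensRange) ?_
  have h2 : p.inv ≫ (𝔸(ULift.{u} (Fin 1); Y.left) ↘ Y.left) =
      Spec.map (CommRingCat.ofHom (algebraMap B Q)) := AffineSpace.SpecIso_inv_over (n := ULift.{u} (Fin 1)) _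
  rw [← cancel_epi iU.isoOpensRange.hom]
  simp only [Iso.trans_hom, Iso.symm_hom, Over.mk_hom, Category.assoc, Iso.hom_inv_id_assoc,
    Scheme.Hom.isoOpensRange_hom_ι_assoc]
  simp only [iU, iV, Category.assoc, hjX, reassoc_of% h2, Y, Over.mk_hom, eε, Functor.mapIso_hom, Scheme.Spec_map]
  rw [← Spec.map_comp, ← Spec.map_comp, ← Spec.map_comp, ← Spec.map_comp]
  congr 1
  ext r
  change ε.symm (algebraMap Q _ (algebraMap B Q (algebraMap K B r))) = algebraMap R _ (algebraMap K R r)
  rw [← IsScalarTower.algebraMap_apply K B Q, ← IsScalarTower.algebraMap_apply K Q, ← IsScalarTower.algebraMap_apply K R,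
    AlgEquiv.commutes]

end Groth.Agent.Lib.Slice
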